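import Groth.Agent.Lib.EtBasicB.OverField
import Groth.Prelude.Def_ega3
import Mathlib.RingTheory.Etale.Field
import Mathlib.LinearAlgebra.FreeModule.Finite.Matrix
import Mathlib.AlgebraicGeometry.ValuativeCriterion
import Mathlib.AlgebraicGeometry.Morphisms.Etale
import Mathlib.RingTheory.Valuation.LocalSubring
import Mathlib.FieldTheory.IsAlgClosed.AlgebraicClosure
import Mathlib.AlgebraicGeometry.ZariskisMainTheorem

/-!
# Étale universally closed morphisms with constant degree of the fibres
-/

set_option linter.all false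
set_option backward.isDefEq.respectTransparency false

universe u

open CategoryTheory CategoryTheory.Limits AlgebraicGeometry
open scoped TensorProduct

namespace GrothLib.EtSep10

/-- A finite étale algebra has as many points in an algebraically closed field as its degree. -/
theorem natCard_algHom (κ A Ω : Type u) [Field κ] [CommRing A] [Algebra κ A] [Field Ω] [Algebra κ Ω] [IsAlgClosed Ω]
    [Module.Finite κ A] [Algebra.Etale κ A] : Nat.card (A →ₐ[κ] Ω) = Module.finrank κ A := by
  classical
  let B := Ω ⊗[κ] A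
  let e := Algebra.FormallyEtale.equivPiOfIsSepClosed Ω B
  haveI : IsArtinianRing B := isArtinian_of_tower Ω inferInstance
  haveI : Finite (PrimeSpectrum B) := inferInstance
  haveI := Fintype.ofFinite (PrimeSpectrum B)
  have hB : Module.finrank Ω B = Module.finrank κ A := Module.finrank_baseChange
  have hι : Module.finrank Ω B = Nat.card (PrimeSpectrum B) := by
    rw [e.toLinearEquiv.finrank_eq, Module.finrank_pi, Nat.card_eq_fintype_card]
  haveI : Finite (B →ₐ[Ω] Ω) := inferInstance
  have hcard : Nat.card (B →ₐ[Ω] Ω) = Module.finrank κ A := by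
    rw [← hB]
    refine le_antisymm (card_algHom_le_finrank Ω B Ω) ?_
    rw [hι]
    refine Nat.card_le_card_of_injective (fun p => (Pi.evalAlgHom Ω (fun _ : PrimeSpectrum B => Ω) p).comp e.toAlgHom) ?_
    intro p q hpq
    by_contra hne
    have h := congr($hpq (e.symm (Pi.single p 1)))
    simp [Pi.single_eq_of_ne (Ne.symm hne)] at h
  rw [← hcard]
  refine Nat.card_congr
    { toFun := fun g => Algebra.TensorProduct.lift (Algebra.ofId Ω Ω) g fun _ _ => mul_comm _ _
      invFun := fun h => (h.restrictScalars κ).comp Algebra.TensorProduct.includeRight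
      left_inv := fun g => AlgHom.ext fun a => by
        show Algebra.TensorProduct.lift (Algebra.ofId Ω Ω) g (fun _ _ => mul_comm _ _) ((1 : Ω) ⊗ₜ[κ] a) = g a
        rw [Algebra.TensorProduct.lift_tmul, map_one, one_mul]
      right_inv := fun h => Algebra.TensorProduct.ext (Subsingleton.elim _ _) (AlgHom.ext fun a => by
        show Algebra.TensorProduct.lift (Algebra.ofId Ω Ω) ((h.restrictScalars κ).comp Algebra.TensorProduct.includeRight)
          (fun _ _ => mul_comm _ _) ((1 : Ω) ⊗ₜ[κ] a) = h ((1 : Ω) ⊗ₜ[κ] a)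
        rw [Algebra.TensorProduct.lift_tmul, map_one, one_mul]
        rfl) }

variable {T S : Scheme.{u}} (f : T ⟶ S)

/-- Lifts of a morphism along `f`. -/
abbrev Lifts {W : Scheme.{u}} (ξ : W ⟶ S) := {l : W ⟶ T // l ≫ f = ξ}

theorem natCard_lifts [Etale f] [QuasiCompact f] {Ω : Type u} [Field Ω] [IsAlgClosed Ω]
    (ξ : Spec (CommRingCat.of Ω) ⟶ S) :
    ∃ s : S, Finite (Lifts f ξ) ∧ Nat.card (Lifts f ξ) = Module.finrank (S.residueField s) Γ(f.fiber s, ⊤) := by
  obtain ⟨⟨s, φ⟩, rfl⟩ := (Scheme.SpecToEquivOfField Ω S).symm.surjective ξ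
  refine ⟨s, ?_⟩
  haveI : LocallyQuasiFinite f := EtBasicB.locallyQuasiFinite_of_unramified f
  let q := f.fiberToSpecResidueField s
  haveI : IsFinite q := inferInstance
  haveI : IsAffine (f.fiber s) := isAffine_of_isAffineHom q
  let κ := S.residueField s
  let A := Γ(f.fiber s, ⊤)
  letI : Algebra κ Ω := φ.hom.toAlgebra
  have hq : (f.fiber s).isoSpec.hom ≫ Spec.map (CommRingCat.ofHom (algebraMap κ A)) = q := by
    have h1 : CommRingCat.ofHom (algebraMap κ A) = (Scheme.ΓSpecIso (S.residueField s)).inv ≫ q.appTop := rfl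
    rw [h1, Spec.map_comp, ← Category.assoc, Scheme.isoSpec_hom, ← Scheme.toSpecΓ_naturality, Category.assoc,
      toSpecΓ_SpecMap_ΓSpecIso_inv, Category.comp_id]
  haveI : Etale q := MorphismProperty.pullback_snd _ _ inferInstance
  have hq' : Spec.map (CommRingCat.ofHom (algebraMap κ A)) = (f.fiber s).isoSpec.inv ≫ q := by
    rw [← hq, Iso.inv_hom_id_assoc]
  have hfin : IsFinite (Spec.map (CommRingCat.ofHom (algebraMap κ A))) := by rw [hq']; infer_instance
  have het : Etale (Spec.map (CommRingCat.ofHom (algebraMap κ A))) := by rw [hq']; infer_instance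
  haveI : Module.Finite κ A := RingHom.finite_algebraMap.1 ((IsFinite.SpecMap_iff _).1 hfin)
  haveI : Algebra.Etale κ A := RingHom.etale_algebraMap.1
    ((HasRingHomProperty.Spec_iff (P := @Etale.{u})).1 het)
  let e : Lifts f ((Scheme.SpecToEquivOfField Ω S).symm ⟨s, φ⟩) ≃ (A →ₐ[κ] Ω) :=
    { toFun := fun p => AlgHom.mk (Spec.preimage (pullback.lift p.1 (Spec.map φ) p.2 ≫ (f.fiber s).isoSpec.hom)).hom
        fun r => by
          have h : Spec.map (CommRingCat.ofHom (algebraMap κ A) ≫
              Spec.preimage (pullback.lift p.1 (Spec.map φ) p.2 ≫ (f.fiber s).isoSpec.hom)) = Spec.map φ := by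
            rw [Spec.map_comp, Spec.map_preimage, Category.assoc, hq]
            exact pullback.lift_snd _ _ _
          exact congr($(Spec.map_injective h) r)
      invFun := fun g => ⟨Spec.map (CommRingCat.ofHom g.toRingHom) ≫ (f.fiber s).isoSpec.inv ≫ f.fiberι s, by
        have h2 : CommRingCat.ofHom (algebraMap κ A) ≫ CommRingCat.ofHom g.toRingHom = φ :=
          CommRingCat.hom_ext g.comp_algebraMap
        rw [Category.assoc, Category.assoc, f.fiber_fac, ← Category.assoc (f.fiber s).isoSpec.inv, ← hq',
          ← Category.assoc, ← Spec.map_comp, h2]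
        rfl⟩
      left_inv := fun p => Subtype.ext <| by
        show Spec.map (Spec.preimage _) ≫ _ = p.1
        rw [Spec.map_preimage]
        simp only [Category.assoc, Iso.hom_inv_id_assoc]
        exact pullback.lift_fst _ _ _
      right_inv := fun g => by
        ext a
        show (Spec.preimage (R := Γ(f.fiber s, ⊤)) (S := CommRingCat.of Ω) _).hom a = g a
        have h : pullback.lift (Spec.map (CommRingCat.ofHom g.toRingHom) ≫ (f.fiber s).isoSpec.inv ≫ f.fiberι s)
            (Spec.map φ) (by
              have h2 : CommRingCat.ofHom (algebraMap κ A) ≫ CommRingCat.ofHom g.toRingHom = φ :=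
                CommRingCat.hom_ext g.comp_algebraMap
              rw [Category.assoc, Category.assoc, f.fiber_fac, ← Category.assoc (f.fiber s).isoSpec.inv, ← hq',
                ← Category.assoc, ← Spec.map_comp, h2]) =
            Spec.map (CommRingCat.ofHom g.toRingHom) ≫ (f.fiber s).isoSpec.inv := by
          apply pullback.hom_ext
          · rw [pullback.lift_fst, Category.assoc]; rfl
          · rw [pullback.lift_snd, Category.assoc]
            show Spec.map φ = Spec.map _ ≫ (f.fiber s).isoSpec.inv ≫ q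
            rw [← hq', ← Spec.map_comp]
            exact congrArg Spec.map (CommRingCat.hom_ext g.comp_algebraMap).symm
        rw [h, Category.assoc, Iso.inv_hom_id, Category.comp_id, Spec.preimage_map]
        rfl }
  exact ⟨Finite.of_equiv _ e.symm, (Nat.card_congr e).trans (natCard_algHom κ A Ω)⟩

/-- Two morphisms from a local scheme over `S` which agree at the closed point agree. -/
theorem eq_of_closedPoint [Etale f] {R : CommRingCat.{u}} [IsLocalRing R] {m₁ m₂ : Spec R ⟶ T}
    (hm : m₁ ≫ f = m₂ ≫ f) {W : Scheme.{u}} (c : W ⟶ Spec R) (w : W) (hw : c w = IsLocalRing.closedPoint R)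
    (hc : c ≫ m₁ = c ≫ m₂) : m₁ = m₂ := by
  let g := pullback.lift m₁ m₂ hm
  have h1 : c ≫ g = (c ≫ m₁) ≫ pullback.diagonal f := by
    apply pullback.hom_ext
    · simp only [g, Category.assoc, pullback.lift_fst, pullback.diagonal_fst, Category.comp_id]
    · simp only [g, Category.assoc, pullback.lift_snd, pullback.diagonal_snd, Category.comp_id]
      exact hc.symm
  have hmem : g (IsLocalRing.closedPoint R) ∈ (pullback.diagonal f).opensRange := by
    rw [← hw, ← Scheme.Hom.comp_apply, h1, Scheme.Hom.comp_apply]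
    exact Set.mem_range_self _
  have hr : Set.range g ⊆ Set.range (pullback.diagonal f) := by
    rintro _ ⟨p, rfl⟩
    exact ((IsLocalRing.specializes_closedPoint p).map g.continuous).mem_open (pullback.diagonal f).opensRange.2 hmem
  let k := IsOpenImmersion.lift (pullback.diagonal f) g hr
  have hk : k ≫ pullback.diagonal f = g := IsOpenImmersion.lift_fac _ _ _
  have e1 := congrArg (· ≫ pullback.fst f f) hk
  have e2 := congrArg (· ≫ pullback.snd f f) hk
  simp only [g, Category.assoc, pullback.diagonal_fst, pullback.diagonal_snd, pullback.lift_fst, pullback.lift_snd,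
    Category.comp_id] at e1 e2
  exact e1.symm.trans e2

/-- Uniqueness in the valuative criterion, from the constancy of the degree of the fibres. -/
theorem uniqueness [Etale f] [QuasiCompact f] [UniversallyClosed f] (d : ℕ)
    (hd : ∀ s : S, Module.finrank (S.residueField s) Γ(f.fiber s, ⊤) = d) :
    ValuativeCriterion.Uniqueness f := by
  intro sq
  refine ⟨fun l₁ l₂ => CommSq.LiftStruct.ext ?_⟩
  let Ω := AlgebraicClosure sq.K
  let ψ₀ : sq.R →+* Ω := (algebraMap sq.K Ω).comp (algebraMap sq.R sq.K)
  have hψ₀ : Function.Injective ψ₀ := (algebraMap sq.K Ω).injective.comp (FaithfulSMul.algebraMap_injective sq.R sq.K)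
  obtain ⟨B, hB⟩ := (LocalSubring.range ψ₀).exists_le_valuationSubring
  obtain ⟨hle, hloc⟩ := hB
  let ψ : sq.R →+* B := (Subring.inclusion hle).comp ψ₀.rangeRestrict
  haveI : IsLocalHom ψ := by
    haveI : IsLocalHom ψ₀.rangeRestrict := ⟨fun a ha => by
      let e := RingEquiv.ofBijective ψ₀.rangeRestrict
        ⟨fun x y h => hψ₀ (congrArg Subtype.val h), ψ₀.rangeRestrict_surjective⟩
      have := ha.map e.symm
      exact e.symm_apply_apply a ▸ this⟩
    exact ⟨fun a ha => IsLocalHom.map_nonunit (f := ψ₀.rangeRestrict) a (hloc.map_nonunit _ ha)⟩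
  let V : CommRingCat.{u} := CommRingCat.of B
  let j : Spec V ⟶ Spec (CommRingCat.of sq.R) := Spec.map (CommRingCat.ofHom ψ)
  let η : Spec (CommRingCat.of Ω) ⟶ Spec V := Spec.map (CommRingCat.ofHom (algebraMap B Ω))
  let θ : V ⟶ CommRingCat.of (AlgebraicClosure (IsLocalRing.ResidueField B)) :=
    CommRingCat.ofHom ((algebraMap (IsLocalRing.ResidueField B) _).comp (IsLocalRing.residue B))
  haveI : IsLocalRing V := inferInstanceAs (IsLocalRing B)
  let c := Spec.map θ
  let b := j ≫ sq.i₂
  obtain ⟨s₁, hf₁, hc₁⟩ := natCard_lifts f (c ≫ b)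
  obtain ⟨s₂, hf₂, hc₂⟩ := natCard_lifts f (η ≫ b)
  let resC : Lifts f b → Lifts f (c ≫ b) := fun m => ⟨c ≫ m.1, by rw [Category.assoc, m.2]⟩
  let resG : Lifts f b → Lifts f (η ≫ b) := fun m => ⟨η ≫ m.1, by rw [Category.assoc, m.2]⟩
  let w : Spec (CommRingCat.of (AlgebraicClosure (IsLocalRing.ResidueField B))) := IsLocalRing.closedPoint _
  have hw : c w = IsLocalRing.closedPoint V := by
    haveI : IsLocalHom θ.hom := by
      haveI : IsLocalHom (algebraMap (IsLocalRing.ResidueField B) (AlgebraicClosure (IsLocalRing.ResidueField B))) :=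
        inferInstance
      exact RingHom.isLocalHom_comp _ _
    exact IsLocalRing.comap_closedPoint θ.hom
  have hinj : Function.Injective resC := fun m m' h =>
    Subtype.ext (eq_of_closedPoint f (m.2.trans m'.2.symm) c w hw congr(($h).1))
  haveI := Finite.of_injective resC hinj
  have hsurj : Function.Surjective resG := by
    intro g
    have hex : ValuativeCriterion.Existence f := by
      have h : (ValuativeCriterion.Existence ⊓ @QuasiCompact) f := by
        rw [← UniversallyClosed.eq_valuativeCriterion]; infer_instance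
      exact h.1
    obtain ⟨⟨l⟩⟩ := hex { R := B, K := Ω, i₁ := g.1, i₂ := b, commSq := ⟨g.2⟩ }
    exact ⟨⟨l.l, l.fac_right⟩, Subtype.ext l.fac_left⟩
  have hbij := hsurj.bijective_of_nat_card_le (by
    rw [hc₂, hd, ← hd s₁, ← hc₁]
    exact Nat.card_le_card_of_injective resC hinj)
  let ρ : Spec (CommRingCat.of Ω) ⟶ Spec (CommRingCat.of sq.K) := Spec.map (CommRingCat.ofHom (algebraMap sq.K Ω))
  have hfac : η ≫ j = ρ ≫ Spec.map (CommRingCat.ofHom (algebraMap sq.R sq.K)) := by
    simp only [η, j, ρ, ← Spec.map_comp]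
    rfl
  have h : (⟨j ≫ l₁.l, by rw [Category.assoc, l₁.fac_right]⟩ : Lifts f b) =
      ⟨j ≫ l₂.l, by rw [Category.assoc, l₂.fac_right]⟩ := hbij.1 <| Subtype.ext <| by
    show η ≫ j ≫ l₁.l = η ≫ j ≫ l₂.l
    rw [← Category.assoc, ← Category.assoc η, hfac, Category.assoc, Category.assoc, l₁.fac_left, l₂.fac_left]
  exact eq_of_closedPoint f (l₁.fac_right.trans l₂.fac_right.symm) j (IsLocalRing.closedPoint V)
    (IsLocalRing.comap_closedPoint ψ) congr(($h).1)

theorem isFinite [Etale f] [QuasiCompact f] [QuasiSeparated f] [UniversallyClosed f] (d : ℕ)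
    (hd : ∀ s : S, Module.finrank (S.residueField s) Γ(f.fiber s, ⊤) = d) : IsFinite f := by
  haveI : IsSeparated f := IsSeparated.of_valuativeCriterion f (uniqueness f d hd)
  haveI : LocallyQuasiFinite f := EtBasicB.locallyQuasiFinite_of_unramified f
  haveI : IsProper f := {}
  exact IsFinite.of_isProper_of_locallyQuasiFinite f

end GrothLib.EtSep10
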